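import Mathlib
import Cfsg.Agent.Lib.Forms.DicksonDihedral
import Cfsg.Agent.Lib.Forms.DicksonList
import Cfsg.Agent.Lib.Forms.KleinIco
import Cfsg.Agent.Lib.TimesPSLTwo.PSLFacts

/-!
# `PSL₂(q)` with all biprimary normalisers maximal

If every proper nontrivial subgroup of `PSL₂(q)`, `q ≥ 4`, whose order has at most two prime
divisors has maximal normaliser, then `q = 13`.
-/

set_option autoImplicit false
set_option linter.unusedSectionVars false

namespace Cfsg.Agent.NormMax

open scoped MatrixGroups

/-- every proper nontrivial subgroup with at most two primes in its order has maximal normaliser -/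
def BiprimaryMax (G : Type*) [Group G] : Prop :=
  ∀ H : Subgroup G, H ≠ ⊥ → H ≠ ⊤ →
    (∃ p q : ℕ, p.Prime ∧ q.Prime ∧ ∀ r : ℕ, r.Prime → r ∣ Nat.card H → r = p ∨ r = q) →
    IsCoatom (Subgroup.normalizer (H : Set G))

section general

variable {G : Type*} [Group G] [Finite G] [IsSimpleGroup G]

theorem norm_ne_top {H : Subgroup G} (h1 : H ≠ ⊥) (h2 : H ≠ ⊤) :
    Subgroup.normalizer (H : Set G) ≠ ⊤ := fun e => by
  rcases (Subgroup.normalizer_eq_top_iff.1 e).eq_bot_or_eq_top with h | h
  · exact h1 h
  · exact h2 h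

theorem max_zpowers (h : BiprimaryMax G) (hnc : ¬ IsCyclic G) {x : G} (hx : x ≠ 1) {p k : ℕ}
    (hp : p.Prime) (ho : orderOf x = p ^ k) :
    IsCoatom (Subgroup.normalizer (Subgroup.zpowers x : Set G)) := by
  refine h _ ?_ ?_ ⟨p, p, hp, hp, fun r hr hd => Or.inl ?_⟩
  · simpa using hx
  · intro e
    exact hnc ⟨⟨x, fun g => by show g ∈ Subgroup.zpowers x; rw [e]; trivial⟩⟩
  · rw [Nat.card_zpowers, ho] at hd
    exact (Nat.prime_dvd_prime_iff_eq hr hp).1 (hr.dvd_of_dvd_pow hd)

theorem inverting_sq {n : ℕ} {D : Subgroup G} (e : D ≃* DihedralGroup n) {c y : G} (hc : c ∈ D)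
    (hy : y ∈ D) (hn : 3 ≤ orderOf c) (hyc : y * c * y⁻¹ = c⁻¹) : y * y = 1 := by
  set C := e ⟨c, hc⟩ with hC
  set Y := e ⟨y, hy⟩ with hY
  have hrel : Y * C * Y⁻¹ = C⁻¹ := by
    rw [hC, hY, ← map_inv, ← map_inv, ← map_mul, ← map_mul]
    exact congrArg e (Subtype.ext hyc)
  have hoc : orderOf C = orderOf c := by
    rw [hC, MulEquiv.orderOf_eq, Subgroup.orderOf_mk]
  have hYY : Y * Y = 1 := by
    rcases hYe : Y with i | i
    · rcases hCe : C with j | j
      · exfalso
        rw [hYe, hCe] at hrel
        simp only [DihedralGroup.r_mul_r, DihedralGroup.inv_r] at hrel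
        have hj : C * C = 1 := by
          rw [hCe, DihedralGroup.r_mul_r, DihedralGroup.one_def]
          have h0 := DihedralGroup.r.inj hrel
          refine congrArg DihedralGroup.r ?_
          linear_combination h0
        have := Nat.le_of_dvd (by norm_num) (orderOf_dvd_of_pow_eq_one (x := C) (n := 2) (by rw [pow_two, hj]))
        omega
      · exfalso
        rw [hCe, DihedralGroup.orderOf_sr] at hoc
        omega
    · exact DihedralGroup.sr_mul_self i
  have := congrArg Subtype.val (e.injective (show e (⟨y, hy⟩ * ⟨y, hy⟩) = e 1 by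
    rw [map_mul, map_one, ← hY, hYY]))
  simpa using this

/-- the torus test: an odd prime `r` in the order of an inverted `c` forces `orderOf c ∣ 2r` -/
theorem dvd_two_mul (h : BiprimaryMax G) {c y : G} (hyc : y * c * y⁻¹ = c⁻¹) (hy : y * y = 1)
    {r : ℕ} (hr : r.Prime) (hr2 : r ≠ 2) (hd : r ∣ orderOf c) : orderOf c ∣ 2 * r := by
  obtain ⟨k, hk⟩ := hd
  set c' := c ^ k with hc'
  have hm := orderOf_pos c
  have hoc' : orderOf c' = r := by
    rw [hc', orderOf_pow' _ (fun e => by rw [e] at hk; omega), hk,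
      Nat.gcd_eq_right (dvd_mul_left k r), Nat.mul_div_cancel _ (by
        rcases Nat.eq_zero_or_pos k with e | e
        · rw [e] at hk; omega
        · exact e)]
  have hc'1 : c' ≠ 1 := fun e => by
    rw [e, orderOf_one] at hoc'
    exact hr.one_lt.ne hoc'
  set N := Subgroup.zpowers c' with hN
  have hNcard : Nat.card N = r := by rw [hN, Nat.card_zpowers, hoc']
  have hyc' : y * c' * y⁻¹ = c'⁻¹ := by rw [hc', ← conj_pow, hyc, inv_pow]
  have hy1 : y ≠ 1 := fun e => by
    rw [e] at hyc'
    simp only [one_mul, inv_one, mul_one] at hyc'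
    have := Nat.le_of_dvd (by norm_num) (orderOf_dvd_of_pow_eq_one (x := c') (n := 2) (by
      rw [pow_two]; nth_rw 1 [hyc']; exact inv_mul_cancel c'))
    have := hr.two_le
    omega
  have hoy : orderOf y = 2 := orderOf_eq_prime (by rw [pow_two, hy]) hy1
  have hyN : y ∈ Subgroup.normalizer (N : Set G) := by
    refine Subgroup.mem_normalizer_iff.2 fun g => ⟨fun hg => ?_, fun hg => ?_⟩
    · obtain ⟨i, rfl⟩ := Subgroup.mem_zpowers_iff.1 hg
      rw [← conj_zpow, hyc']
      exact Subgroup.zpow_mem _ (inv_mem (Subgroup.mem_zpowers c')) i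
    · obtain ⟨i, hi⟩ := Subgroup.mem_zpowers_iff.1 hg
      have hyi : y⁻¹ = y := inv_eq_of_mul_eq_one_right hy
      have : g = y * (y * g * y⁻¹) * y⁻¹ := by
        rw [hyi]
        calc g = (y * y) * g * (y * y) := by rw [hy]; simp
          _ = _ := by group
      rw [this, ← hi, ← conj_zpow, hyc']
      exact Subgroup.zpow_mem _ (inv_mem (Subgroup.mem_zpowers c')) i
  have hdis : Disjoint N (Subgroup.zpowers y) :=
    disjoint_iff.2 (Subgroup.inf_eq_bot_of_coprime (by
      rw [hNcard, Nat.card_zpowers, hoy]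
      exact (Nat.coprime_primes hr Nat.prime_two).2 hr2))
  set H := N ⊔ Subgroup.zpowers y with hH
  have hyle : Subgroup.zpowers y ≤ Subgroup.normalizer (N : Set G) := by
    rwa [Subgroup.zpowers_le]
  have hHcard : Nat.card H = r * 2 := by
    rw [hH, Forms.KleinGroups.natCard_sup hyle hdis, hNcard, Nat.card_zpowers, hoy]
  have hc'H : c' ∈ H := Subgroup.mem_sup_left (Subgroup.mem_zpowers c')
  have hyH : y ∈ H := Subgroup.mem_sup_right (Subgroup.mem_zpowers y)
  have hN1 : N ≠ ⊥ := by rw [hN]; simpa using hc'1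
  have hH1 : H ≠ ⊥ := fun e => hN1 (eq_bot_iff.2 (e ▸ le_sup_left))
  have hHle : H ≤ Subgroup.normalizer (N : Set G) := sup_le Subgroup.le_normalizer hyle
  have hNtop : N ≠ ⊤ := fun e => by
    have hyN' : y ∈ N := by rw [e]; trivial
    have := Subgroup.disjoint_def.1 hdis hyN' (Subgroup.mem_zpowers y)
    exact hy1 this
  have hHtop : H ≠ ⊤ := fun e => norm_ne_top hN1 hNtop (eq_top_iff.2 (e ▸ hHle))
  have hco := h H hH1 hHtop ⟨r, 2, hr, Nat.prime_two, fun s hs hsd => by
    rw [hHcard] at hsd
    exact (hs.dvd_mul.1 hsd).imp (Nat.prime_dvd_prime_iff_eq hs hr).1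
      (Nat.prime_dvd_prime_iff_eq hs Nat.prime_two).1⟩
  -- elements of order dividing `r` in `H` lie in `N`
  have hodd : ∀ x ∈ H, x ^ r = 1 → x ∈ N := by
    intro x hx hxr
    rw [hH, ← SetLike.mem_coe, Subgroup.coe_mul_of_right_le_normalizer_left _ _ hyle] at hx
    obtain ⟨a, ha, b, hb, rfl⟩ := hx
    rcases (Subgroup.mem_zpowers_iff.1 hb) with ⟨i, rfl⟩
    rcases Int.even_or_odd i with ⟨j, hj⟩ | ⟨j, hj⟩
    · have : y ^ i = 1 := by
        rw [hj, ← two_mul, zpow_mul, zpow_two, hy, one_zpow]
      show a * y ^ i ∈ N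
      rw [this, mul_one]
      exact ha
    · exfalso
      have hyi : y ^ i = y := by
        rw [hj, zpow_add, zpow_mul, zpow_two, hy, one_zpow, one_mul, zpow_one]
      simp only [hyi] at hxr
      obtain ⟨l, rfl⟩ := Subgroup.mem_zpowers_iff.1 ha
      have hsq : (c' ^ l * y) ^ 2 = 1 := by
        have e : y * c' ^ l * y⁻¹ = (c' ^ l)⁻¹ := by rw [← conj_zpow, hyc', inv_zpow]
        have hyi' : y⁻¹ = y := inv_eq_of_mul_eq_one_right hy
        rw [hyi'] at e
        calc (c' ^ l * y) ^ 2 = c' ^ l * (y * c' ^ l * y) := by rw [pow_two]; group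
          _ = 1 := by rw [e, mul_inv_cancel]
      have hone : c' ^ l * y = 1 := by
        have h2 : orderOf (c' ^ l * y) ∣ Nat.gcd 2 r :=
          Nat.dvd_gcd (orderOf_dvd_of_pow_eq_one hsq) (orderOf_dvd_of_pow_eq_one hxr)
        rw [(Nat.coprime_primes Nat.prime_two hr).2 (Ne.symm hr2)] at h2
        exact orderOf_eq_one_iff.1 (Nat.dvd_one.1 h2)
      have hyN' : y ∈ N := by
        rw [eq_inv_of_mul_eq_one_right hone]
        exact inv_mem (Subgroup.zpow_mem _ (Subgroup.mem_zpowers c') l)
      exact hy1 (Subgroup.disjoint_def.1 hdis hyN' (Subgroup.mem_zpowers y))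
  have hle : Subgroup.normalizer (H : Set G) ≤ Subgroup.normalizer (N : Set G) := by
    intro g hg
    refine Subgroup.mem_normalizer_iff.2 fun n => ⟨fun hn => ?_, fun hn => ?_⟩
    · refine hodd _ ((Subgroup.mem_normalizer_iff.1 hg n).1 ((le_sup_left : N ≤ H) hn)) ?_
      rw [conj_pow, show n ^ r = 1 by
        rw [← hNcard]; exact congrArg Subtype.val (pow_card_eq_one' (x := (⟨n, hn⟩ : N))),
        mul_one, mul_inv_cancel]
    · refine hodd _ ((Subgroup.mem_normalizer_iff.1 hg n).2 ((le_sup_left : N ≤ H) hn)) ?_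
      have h1 : (g * n * g⁻¹) ^ r = 1 := by
        rw [← hNcard]; exact congrArg Subtype.val (pow_card_eq_one' (x := (⟨_, hn⟩ : N)))
      rw [conj_pow] at h1
      exact conj_eq_one_iff.1 h1
  have hcM : c ∈ Subgroup.normalizer (N : Set G) := by
    refine Subgroup.mem_normalizer_iff.2 fun g => ⟨fun hg => ?_, fun hg => ?_⟩
    · obtain ⟨i, rfl⟩ := Subgroup.mem_zpowers_iff.1 hg
      rw [← conj_zpow, hc', show c * c ^ k * c⁻¹ = c ^ k by group]
      exact Subgroup.zpow_mem _ (Subgroup.mem_zpowers _) i
    · obtain ⟨i, hi⟩ := Subgroup.mem_zpowers_iff.1 hg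
      have : g = c⁻¹ * (c * g * c⁻¹) * c⁻¹⁻¹ := by group
      rw [this, ← hi, ← conj_zpow, hc', show c⁻¹ * c ^ k * c⁻¹⁻¹ = c ^ k by group]
      exact Subgroup.zpow_mem _ (Subgroup.mem_zpowers _) i
  have heq : Subgroup.normalizer (N : Set G) = Subgroup.normalizer (H : Set G) := by
    rcases hle.eq_or_lt with e | e
    · exact e.symm
    · exact absurd (hco.2 _ e) (norm_ne_top hN1 hNtop)
  rw [heq] at hcM
  have hc2 : c ^ 2 ∈ H := by
    have h1 : c * y * c⁻¹ * y⁻¹ ∈ H :=
      mul_mem ((Subgroup.mem_normalizer_iff.1 hcM y).1 hyH) (inv_mem hyH)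
    have h2 : c * y * c⁻¹ * y⁻¹ = c * (y * c * y⁻¹)⁻¹ := by group
    rwa [h2, hyc, inv_inv, ← pow_two] at h1
  have hc2N : c ^ 2 ∈ N := by
    rw [hH, ← SetLike.mem_coe, Subgroup.coe_mul_of_right_le_normalizer_left _ _ hyle] at hc2
    obtain ⟨a, ha, b, hb, hab⟩ := hc2
    simp only at hab
    rcases (Subgroup.mem_zpowers_iff.1 hb) with ⟨i, rfl⟩
    obtain ⟨l, rfl⟩ := Subgroup.mem_zpowers_iff.1 ha
    rcases Int.even_or_odd i with ⟨j, hj⟩ | ⟨j, hj⟩
    · have : y ^ i = 1 := by rw [hj, ← two_mul, zpow_mul, zpow_two, hy, one_zpow]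
      rw [this, mul_one] at hab
      rw [← hab]
      exact Subgroup.zpow_mem _ (Subgroup.mem_zpowers c') l
    · exfalso
      have hyi : y ^ i = y := by
        rw [hj, zpow_add, zpow_mul, zpow_two, hy, one_zpow, one_mul, zpow_one]
      rw [hyi] at hab
      -- then `y` is a power of `c`, so it centralises `c'`
      have hyeq : y = (c' ^ l)⁻¹ * c ^ 2 := by rw [← hab]; group
      have hcom : y * c' * y⁻¹ = c' := by
        rw [hyeq, hc']
        group
      rw [hyc'] at hcom
      have := Nat.le_of_dvd (by norm_num) (orderOf_dvd_of_pow_eq_one (x := c') (n := 2) (by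
        rw [pow_two]; nth_rw 1 [← hcom]; exact inv_mul_cancel c'))
      have := hr.two_le
      omega
  have h2r : c ^ (2 * r) = 1 := by
    rw [pow_mul, ← hNcard]
    exact congrArg Subtype.val (pow_card_eq_one' (x := (⟨c ^ 2, hc2N⟩ : N)))
  exact orderOf_dvd_of_pow_eq_one h2r

end general

section psl

variable {F : Type} [Field F] [Fintype F]

local notation "PG" => Matrix.ProjectiveSpecialLinearGroup (Fin 2) F

open Forms.KleinPSL Classical.GL2

theorem not_cyclic (hq : 3 < Fintype.card F) : ¬ IsCyclic PG := fun _ =>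
  TimesPSLTwo.two_upper (F := F) (IsCyclic.commGroup.mul_comm _ _)

/-- the upper triangular subgroup -/
def upper : Subgroup PG :=
  Subgroup.map (pi F)
    { carrier := {A : SL(2, F) | (A : Matrix (Fin 2) (Fin 2) F) 1 0 = 0}
      one_mem' := by simp
      mul_mem' := fun {A B} (hA : (A : Matrix (Fin 2) (Fin 2) F) 1 0 = 0)
          (hB : (B : Matrix (Fin 2) (Fin 2) F) 1 0 = 0) => by
        show ((A * B : SL(2, F)) : Matrix (Fin 2) (Fin 2) F) 1 0 = 0
        rw [Matrix.SpecialLinearGroup.coe_mul, Matrix.mul_apply, Fin.sum_univ_two, hA, hB]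
        ring
      inv_mem' := fun {A} (hA : (A : Matrix (Fin 2) (Fin 2) F) 1 0 = 0) => by
        show ((A⁻¹ : SL(2, F)) : Matrix (Fin 2) (Fin 2) F) 1 0 = 0
        rw [Matrix.SpecialLinearGroup.coe_inv, Matrix.adjugate_fin_two]
        simp [hA] }

/-- the normaliser of a unipotent element forces a prime field -/
theorem card_prime (hq : 3 < Fintype.card F) (h : BiprimaryMax PG) (p : ℕ) [Fact p.Prime]
    [CharP F p] : Fintype.card F = p := by
  classical
  haveI := TimesPSLTwo.psl_simple (F := F) hq
  set x : PG := pi F (uniSL 1) with hx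
  have hpow : ∀ k : ℕ, uniSL (1 : F) ^ k = uniSL (k : F) := fun k => by
    induction k with
    | zero => rw [pow_zero, Nat.cast_zero, uniSL_zero]
    | succ k ih => rw [pow_succ, ih, uniSL_mul, Nat.cast_succ]
  have hx1 : x ≠ 1 := by
    intro e
    rcases pi_eq_one.1 e with e | e
    all_goals
      have := congrFun (congrFun (congrArg Subtype.val e) 0) 1
      simp [coe_uniSL] at this
  have hxp : x ^ p = 1 := by
    rw [hx, ← map_pow, hpow, CharP.cast_eq_zero, uniSL_zero, map_one]
  have hox : orderOf x = p ^ 1 := by rw [pow_one]; exact orderOf_eq_prime hxp hx1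
  have hco := max_zpowers h (not_cyclic hq) hx1 Fact.out hox
  set M := Subgroup.normalizer (Subgroup.zpowers x : Set PG) with hM
  -- what a normalising element looks like
  have key : ∀ A : SL(2, F), pi F A ∈ M → (A : Matrix (Fin 2) (Fin 2) F) 1 0 = 0 ∧
      ∃ k : ℕ, (A : Matrix (Fin 2) (Fin 2) F) 0 0 ^ 2 = (k : F) := by
    intro A hA
    have hmem := (Subgroup.mem_normalizer_iff.1 hA x).1 (Subgroup.mem_zpowers x)
    rw [← mem_powers_iff_mem_zpowers] at hmem
    obtain ⟨k, hk⟩ := Submonoid.mem_powers_iff _ _ |>.1 hmem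
    rw [hx, ← map_pow, hpow] at hk
    have hk' : pi F (uniSL (k : F) * A) = pi F (A * uniSL 1) := by
      rw [map_mul, map_mul, hk]; group
    have hdet := A.2
    rw [Matrix.det_fin_two] at hdet
    rcases pi_eq_iff.1 hk' with e | e
    · have e00 := congrFun (congrFun (congrArg Subtype.val e) 0) 0
      have e11 := congrFun (congrFun (congrArg Subtype.val e) 1) 1
      have e01 := congrFun (congrFun (congrArg Subtype.val e) 0) 1
      simp only [Matrix.SpecialLinearGroup.coe_mul, coe_uniSL, Matrix.mul_apply,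
        Fin.sum_univ_two] at e00 e11 e01
      simp at e00 e11 e01
      have h10 : (A : Matrix (Fin 2) (Fin 2) F) 1 0 = 0 := by linear_combination e11
      refine ⟨h10, k, ?_⟩
      rw [h10] at hdet
      linear_combination (-(A : Matrix (Fin 2) (Fin 2) F) 0 0) * e01 + (k : F) * hdet
    · have e10 := congrFun (congrFun (congrArg Subtype.val e) 1) 0
      have e00 := congrFun (congrFun (congrArg Subtype.val e) 0) 0
      have e11 := congrFun (congrFun (congrArg Subtype.val e) 1) 1
      have e01 := congrFun (congrFun (congrArg Subtype.val e) 0) 1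
      simp only [Matrix.SpecialLinearGroup.coe_mul, Matrix.SpecialLinearGroup.coe_neg, coe_uniSL,
        Matrix.neg_apply, Matrix.mul_apply, Fin.sum_univ_two] at e00 e11 e01 e10
      simp at e00 e11 e01 e10
      rcases eq_or_ne (2 : F) 0 with h2 | h2
      · have hn : ∀ a : F, -a = a := fun a => by linear_combination (-a) * h2
        simp only [hn] at e00 e11 e01 e10
        have h10 : (A : Matrix (Fin 2) (Fin 2) F) 1 0 = 0 := by
          linear_combination e11 + (A : Matrix (Fin 2) (Fin 2) F) 1 0 * h2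
        refine ⟨h10, k, ?_⟩
        rw [h10] at hdet
        linear_combination (-(A : Matrix (Fin 2) (Fin 2) F) 0 0) * e01 + (k : F) * hdet
      · exfalso
        have h10 : (A : Matrix (Fin 2) (Fin 2) F) 1 0 = 0 := by
          have : (2 : F) * (A : Matrix (Fin 2) (Fin 2) F) 1 0 = 0 := by linear_combination e10
          exact (mul_eq_zero.1 this).resolve_left h2
        rw [h10] at e11 hdet
        have h11 : (A : Matrix (Fin 2) (Fin 2) F) 1 1 = 0 := by
          have : (2 : F) * (A : Matrix (Fin 2) (Fin 2) F) 1 1 = 0 := by linear_combination e11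
          exact (mul_eq_zero.1 this).resolve_left h2
        rw [h11] at hdet
        simp at hdet
  have hle : M ≤ upper (F := F) := fun g hg => by
    obtain ⟨A, rfl⟩ := pi_surjective g
    exact Subgroup.mem_map.2 ⟨A, (key A hg).1, rfl⟩
  have hne : upper (F := F) ≠ ⊤ := fun e => by
    have hmem : pi F (lowSL (1 : F)) ∈ upper (F := F) := by rw [e]; trivial
    obtain ⟨A, hA, hA'⟩ := Subgroup.mem_map.1 hmem
    have hA0 : (A : Matrix (Fin 2) (Fin 2) F) 1 0 = 0 := hA
    rcases pi_eq_iff.1 hA' with e | e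
    all_goals
      rw [e] at hA0
      simp [coe_lowSL] at hA0
  have heq : M = upper (F := F) := by
    rcases hle.eq_or_lt with e | e
    · exact e
    · exact absurd (hco.2 _ e) hne
  obtain ⟨u, hu⟩ := IsCyclic.exists_generator (α := Fˣ)
  have hou : orderOf u = Fintype.card F - 1 := by
    rw [orderOf_eq_card_of_forall_mem_zpowers hu, Nat.card_eq_fintype_card, Fintype.card_units]
  have htM : pi F (Classical.Torus.diagHom u) ∈ M := by
    rw [heq]
    exact Subgroup.mem_map.2 ⟨_, (rfl : ((Classical.Torus.diagHom u : SL(2, F)) :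
      Matrix (Fin 2) (Fin 2) F) 1 0 = 0), rfl⟩
  obtain ⟨-, k, hk⟩ := key _ htM
  have hk' : (u : F) ^ 2 = (k : F) := hk
  have hfix : ((k : F)) ^ (p - 1) = 1 := by
    have hk0 : (k : ZMod p) ≠ 0 := fun e => by
      have h1 := congrArg (ZMod.castHom (dvd_refl p) F) e
      rw [map_natCast, map_zero, ← hk'] at h1
      exact pow_ne_zero 2 u.ne_zero h1
    have := congrArg (ZMod.castHom (dvd_refl p) F) (ZMod.pow_card_sub_one_eq_one hk0)
    rwa [map_pow, map_natCast, map_one] at this
  have hdvd : Fintype.card F - 1 ∣ 2 * (p - 1) := by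
    rw [← hou]
    refine orderOf_dvd_of_pow_eq_one (Units.ext ?_)
    rw [Units.val_pow_eq_pow_val, pow_mul, hk', hfix, Units.val_one]
  obtain ⟨n, hp, hn⟩ := FiniteField.card F p
  have hp2 := hp.two_le
  rcases eq_or_ne (n : ℕ) 1 with h1 | h1
  · rw [hn, h1, pow_one]
  · exfalso
    have hn2 : 2 ≤ (n : ℕ) := by have := n.pos; omega
    have h1' : p ^ 2 ≤ p ^ (n : ℕ) := Nat.pow_le_pow_right (by omega) hn2
    have h2' := Nat.le_of_dvd (by omega) hdvd
    rw [hn] at h2'
    have : 2 * p ≤ p ^ 2 := by rw [pow_two]; exact Nat.mul_le_mul_right p hp2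
    omega

theorem no_big_order (p : ℕ) [Fact p.Prime] [CharP F p] (g : PG) {N : ℕ} (hN : orderOf g = N)
    (h1 : ¬ N ∣ (Fintype.card F + 1) / Nat.gcd 2 (Fintype.card F - 1))
    (h2 : ¬ N ∣ (Fintype.card F - 1) / Nat.gcd 2 (Fintype.card F - 1))
    (h3 : p ∣ N → Fintype.card F + 1 < N) : False := by
  by_cases hp : p ∣ orderOf g
  · have := Forms.DicksonDihedral.orderOf_psl_le g
    rw [hN] at this hp
    have := h3 hp
    omega
  · rcases Forms.DicksonList.order_dvd p g hp with h | h
    · exact h1 (hN ▸ h)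
    · exact h2 (hN ▸ h)

theorem klein_setup {G : Type*} [Group G] {e f w : G} (hf : f * f = 1) (hc : Commute e f)
    (he : e * e = 1) (h1 : w * e * w⁻¹ = f) (h2 : w * f * w⁻¹ = e * f) [Finite G] :
    w ∈ Subgroup.normalizer (Subgroup.closure ({e, f} : Set G) : Set G) := by
  set V := Subgroup.closure ({e, f} : Set G)
  have heV : e ∈ V := Subgroup.subset_closure (by simp)
  have hfV : f ∈ V := Subgroup.subset_closure (by simp)
  have hle : V.map (MulAut.conj w).toMonoidHom ≤ V := by
    rw [MonoidHom.map_closure, Subgroup.closure_le]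
    rintro - ⟨z, hz, rfl⟩
    rcases (Set.mem_insert_iff.1 hz).imp_right Set.mem_singleton_iff.1 with h | h <;> rw [h]
    · show w * e * w⁻¹ ∈ V
      rw [h1]; exact hfV
    · show w * f * w⁻¹ ∈ V
      rw [h2]; exact mul_mem heV hfV
  rw [Subgroup.mem_normalizer_iff]
  have heq : V.map (MulAut.conj w).toMonoidHom = V :=
    Subgroup.eq_of_le_of_card_ge hle (le_of_eq (Subgroup.card_map_of_injective
      (MulAut.conj w).injective).symm)
  intro g
  conv_rhs => rw [← heq]
  rw [Subgroup.mem_map]
  exact ⟨fun hg => ⟨g, hg, rfl⟩, fun ⟨z, hz, hz'⟩ => (MulAut.conj w).injective hz' ▸ hz⟩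

/-- a subgroup centralising or inverting data forced to be a `2`-group of bounded order -/
theorem card_le_of_odd {G : Type*} [Group G] [Finite G] (M : Subgroup G) (b : ℕ)
    (hodd : ∀ z ∈ M, ∀ r : ℕ, r.Prime → orderOf z = r → r = 2)
    (hb : ∀ j : ℕ, 2 ^ j ∣ Nat.card G → 2 ^ j ≤ b) : Nat.card M ≤ b := by
  have hM : IsPGroup 2 M := by
    rw [IsPGroup.iff_card]
    refine ⟨(Nat.card M).primeFactorsList.length,
      Nat.eq_prime_pow_of_unique_prime_dvd Nat.card_pos.ne' fun {d} hd hdd => ?_⟩
    haveI := Fact.mk hd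
    obtain ⟨z, hz⟩ := exists_prime_orderOf_dvd_card' d hdd
    exact hodd z z.2 d hd (by rw [Subgroup.orderOf_coe, hz])
  obtain ⟨j, hj⟩ := IsPGroup.iff_card.1 hM
  rw [hj]
  exact hb j (hj ▸ M.card_subgroup_dvd_card)

theorem charP_of {p : ℕ} [hp : Fact p.Prime] (hq : Fintype.card F = p) : CharP F p := by
  obtain ⟨r, hr⟩ := CharP.exists F
  haveI := hr
  obtain ⟨n, hrp, hn⟩ := FiniteField.card F r
  have hd : r ∣ p := by rw [← hq, hn]; exact dvd_pow_self r n.ne_zero
  rwa [(Nat.prime_dvd_prime_iff_eq hrp hp.out).1 hd] at hr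

theorem not_five (hq : Fintype.card F = 5) (h : BiprimaryMax PG) : False := by
  classical
  haveI := TimesPSLTwo.psl_simple (F := F) (by omega)
  haveI : Fact (Nat.Prime 5) := ⟨by norm_num⟩
  haveI : CharP F 5 := charP_of (F := F) hq
  have h2 : (2 : F) ≠ 0 := Classical.SylowSL2.two_ne_zero_of_odd (by rw [hq]; decide)
  obtain ⟨D, hD, ⟨φ⟩, -⟩ := Forms.DicksonDihedral.exists_minus (F := F)
  rw [hq] at φ hD
  norm_num [-Nat.card_eq_fintype_card] at φ hD
  replace φ : D ≃* DihedralGroup 2 := φ
  set e : PG := ((φ.symm (DihedralGroup.r 1) : D) : PG) with he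
  set f : PG := ((φ.symm (DihedralGroup.sr 0) : D) : PG) with hf
  have hoe : orderOf e = 2 := by
    rw [he, Subgroup.orderOf_coe, MulEquiv.orderOf_eq, DihedralGroup.orderOf_r_one]
  have hof : orderOf f = 2 := by
    rw [hf, Subgroup.orderOf_coe, MulEquiv.orderOf_eq, DihedralGroup.orderOf_sr]
  have hne : e ≠ f := fun k => by
    have := φ.symm.injective (Subtype.ext k : φ.symm (DihedralGroup.r 1) = φ.symm (DihedralGroup.sr 0))
    exact absurd this (by decide)
  have hcm : Commute e f := by
    have hc : (DihedralGroup.r 1 : DihedralGroup 2) * DihedralGroup.sr 0 =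
        DihedralGroup.sr 0 * DihedralGroup.r 1 := by decide
    have := congrArg (fun z => ((φ.symm z : D) : PG)) hc
    simp only [map_mul, Subgroup.coe_mul] at this
    exact this
  obtain ⟨w, hw1, hw2⟩ := TimesPSLTwo.four_rotation h2 hoe hof hne hcm
  have hee : e * e = 1 := by
    have := pow_orderOf_eq_one e
    rwa [hoe, pow_two] at this
  have hff : f * f = 1 := by
    have := pow_orderOf_eq_one f
    rwa [hof, pow_two] at this
  have he1 : e ≠ 1 := fun k => by rw [k, orderOf_one] at hoe; omega
  set M := Subgroup.normalizer (Subgroup.zpowers e : Set PG) with hM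
  have hco : IsCoatom M :=
    max_zpowers h (not_cyclic (by omega)) he1 (k := 1) Nat.prime_two (by rw [hoe, pow_one])
  set V := Subgroup.closure ({e, f} : Set PG) with hV
  have hcom : ∀ z ∈ M, z * e * z⁻¹ = e := by
    intro z hz
    have hmem := (Subgroup.mem_normalizer_iff.1 hz e).1 (Subgroup.mem_zpowers e)
    obtain ⟨i, hi⟩ := Subgroup.mem_zpowers_iff.1 hmem
    rcases Int.even_or_odd i with ⟨j, hj⟩ | ⟨j, hj⟩
    · exfalso
      rw [hj, ← two_mul, zpow_mul, zpow_two, hee, one_zpow] at hi
      exact he1 (conj_eq_one_iff.1 hi.symm)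
    · rw [hj, zpow_add, zpow_mul, zpow_two, hee, one_zpow, one_mul, zpow_one] at hi
      exact hi.symm
  have hVM : V ≤ M := by
    rw [hV, Subgroup.closure_le]
    intro z hz
    rcases (Set.mem_insert_iff.1 hz).imp_right Set.mem_singleton_iff.1 with hzz | hzz <;> rw [hzz]
    · exact Subgroup.le_normalizer (Subgroup.mem_zpowers e)
    · refine Subgroup.mem_normalizer_iff.2 fun g => ?_
      have hfe : f * e * f⁻¹ = e := by rw [← hcm.eq, mul_inv_cancel_right]
      have : (Subgroup.zpowers e).map (MulAut.conj f).toMonoidHom = Subgroup.zpowers e := by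
        rw [MonoidHom.map_zpowers]
        exact congrArg Subgroup.zpowers hfe
      conv_rhs => rw [← this]
      rw [Subgroup.mem_map]
      exact ⟨fun hg => ⟨g, hg, rfl⟩, fun ⟨z, hz, hz'⟩ => (MulAut.conj f).injective hz' ▸ hz⟩
  have hcardG : Nat.card PG = 60 := by
    have := Forms.DicksonCor.gcd_mul_natCard (F := F)
    rw [hq] at this
    norm_num [-Nat.card_eq_fintype_card] at this
    omega
  have hMle : Nat.card M ≤ 4 := by
    refine card_le_of_odd M 4 (fun z hz r hr hzr => ?_) fun j hj => ?_
    · by_contra hr2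
      have hc : Commute e z := (mul_inv_eq_iff_eq_mul.1 (hcom z hz)).symm
      have ho : orderOf (e * z) = 2 * r := by
        rw [hc.orderOf_mul_eq_mul_orderOf_of_coprime, hoe, hzr]
        rw [hoe, hzr]; exact (Nat.coprime_primes Nat.prime_two hr).2 (Ne.symm hr2)
      have := hr.two_le
      refine no_big_order 5 _ ho ?_ ?_ ?_
      · rw [hq]; norm_num
        intro hd; have := Nat.le_of_dvd (by norm_num) hd; omega
      · rw [hq]; norm_num
        intro hd; have := Nat.le_of_dvd (by norm_num) hd; omega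
      · intro hd
        rw [hq]
        rcases (Nat.Prime.dvd_mul (by norm_num : Nat.Prime 5)).1 hd with h5 | h5
        · norm_num at h5
        · have := Nat.le_of_dvd hr.pos h5; omega
    · rw [hcardG] at hj
      by_contra hlt
      have h8 : 3 ≤ j := by
        by_contra h3
        interval_cases j <;> norm_num at hlt
      have := (pow_dvd_pow 2 h8).trans hj
      norm_num at this
  have hV4 : 4 ≤ Nat.card V := by
    have hsub : ({1, e, f, e * f} : Set PG) ⊆ (V : Set PG) := by
      have heV : e ∈ V := Subgroup.subset_closure (by simp)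
      have hfV : f ∈ V := Subgroup.subset_closure (by simp)
      rintro z (rfl | rfl | rfl | rfl)
      exacts [one_mem _, heV, hfV, mul_mem heV hfV]
    have hf1 : f ≠ 1 := fun k => by rw [k, orderOf_one] at hof; omega
    have hef : e * f ≠ 1 := fun k => hne (by
      have := eq_inv_of_mul_eq_one_left k
      rwa [inv_eq_of_mul_eq_one_right hff] at this)
    have h4 : Set.ncard ({1, e, f, e * f} : Set PG) = 4 := by
      rw [Set.ncard_insert_of_notMem (by simp [Ne.symm he1, Ne.symm hf1, Ne.symm hef]),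
        Set.ncard_insert_of_notMem (by simp [hne, hf1]), Set.ncard_pair (by simp [he1])]
    rw [Nat.card_coe_set_eq (V : Set PG) |>.trans rfl |> fun k => (k : Nat.card V = _), ← h4]
    exact Set.ncard_le_ncard hsub
  have hMV : V = M := Subgroup.eq_of_le_of_card_ge hVM (hMle.trans hV4)
  have hwN := klein_setup hff hcm hee hw1 hw2
  rw [← hV, hMV] at hwN
  have hle : M ≤ Subgroup.normalizer (M : Set PG) := Subgroup.le_normalizer
  have hwM : w ∉ M := fun k => hne (by rw [← hw1, hcom w k])
  have hlt : M < Subgroup.normalizer (M : Set PG) := lt_of_le_of_ne hle fun k => hwM (k ▸ hwN)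
  refine norm_ne_top ?_ hco.1 (hco.2 _ hlt)
  intro k
  have : e ∈ M := Subgroup.le_normalizer (Subgroup.mem_zpowers e)
  rw [k] at this
  exact he1 this

theorem not_seven (hq : Fintype.card F = 7) (h : BiprimaryMax PG) : False := by
  classical
  haveI := TimesPSLTwo.psl_simple (F := F) (by omega)
  haveI : Fact (Nat.Prime 7) := ⟨by norm_num⟩
  haveI : CharP F 7 := charP_of (F := F) hq
  have h2 : (2 : F) ≠ 0 := Classical.SylowSL2.two_ne_zero_of_odd (by rw [hq]; decide)
  obtain ⟨D, hD, ⟨φ⟩, c, hc, y, hy, hoc, hyc⟩ := Forms.DicksonDihedral.exists_plus (F := F)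
  rw [hq] at φ hD hoc
  norm_num [-Nat.card_eq_fintype_card] at φ hD hoc
  have hyy := inverting_sq φ hc hy (by omega) hyc
  set e : PG := c ^ 2 with he
  have hoe : orderOf e = 2 := by
    rw [he, orderOf_pow' _ (by norm_num), hoc]; norm_num
  have hee : e * e = 1 := by
    have := pow_orderOf_eq_one e
    rwa [hoe, pow_two] at this
  have hy1 : y ≠ 1 := fun k => by
    rw [k] at hyc
    simp only [one_mul, inv_one, mul_one] at hyc
    have := Nat.le_of_dvd (by norm_num) (orderOf_dvd_of_pow_eq_one (x := c) (n := 2) (by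
      rw [pow_two]; nth_rw 1 [hyc]; exact inv_mul_cancel c))
    omega
  have hoy : orderOf y = 2 := orderOf_eq_prime (by rw [pow_two, hyy]) hy1
  have hye : Commute y e := by
    refine mul_inv_eq_iff_eq_mul.1 ?_
    rw [he, ← conj_pow, hyc, inv_pow]
    exact inv_eq_of_mul_eq_one_right hee
  have hne : e ≠ y := fun k => by
    have : y * c * y⁻¹ = c := by rw [← k, he]; group
    rw [hyc] at this
    have := Nat.le_of_dvd (by norm_num) (orderOf_dvd_of_pow_eq_one (x := c) (n := 2) (by
      rw [pow_two]; nth_rw 1 [← this]; exact inv_mul_cancel c))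
    omega
  obtain ⟨w, hw1, hw2⟩ := TimesPSLTwo.four_rotation h2 hoe hoy hne hye.symm
  have hc1 : c ≠ 1 := fun k => by rw [k, orderOf_one] at hoc; omega
  set M := Subgroup.normalizer (Subgroup.zpowers c : Set PG) with hM
  have hco : IsCoatom M :=
    max_zpowers h (not_cyclic (by omega)) hc1 (k := 2) Nat.prime_two (by rw [hoc]; norm_num)
  have hcM : c ∈ M := Subgroup.le_normalizer (Subgroup.mem_zpowers c)
  have hcardG : Nat.card PG = 168 := by
    have := Forms.DicksonCor.gcd_mul_natCard (F := F)
    rw [hq] at this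
    norm_num [-Nat.card_eq_fintype_card] at this
    omega
  have hMle : Nat.card M ≤ 8 := by
    refine card_le_of_odd M 8 (fun z hz r hr hzr => ?_) fun j hj => ?_
    · by_contra hr2
      have hmem := (Subgroup.mem_normalizer_iff.1 hz c).1 (Subgroup.mem_zpowers c)
      -- the action on `⟨c⟩` has order dividing `2` and `r`, so `z` commutes with `c`
      have hcm : Commute c z := by
        rw [← mem_powers_iff_mem_zpowers] at hmem
        obtain ⟨i, hi⟩ := Submonoid.mem_powers_iff _ _ |>.1 hmem
        have hi' : c ^ (i % 4) = z * c * z⁻¹ := by rw [← hoc, pow_mod_orderOf]; exact hi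
        have hoz : orderOf (z * c * z⁻¹) = 4 := by
          rw [← MulAut.conj_apply, MulEquiv.orderOf_eq, hoc]
        have h4 : i % 4 = 1 ∨ i % 4 = 3 := by
          have : i % 4 < 4 := Nat.mod_lt _ (by norm_num)
          rcases (by omega : i % 4 = 0 ∨ i % 4 = 1 ∨ i % 4 = 2 ∨ i % 4 = 3) with k | k | k | k
          · rw [k, pow_zero] at hi'; rw [← hi', orderOf_one] at hoz; omega
          · exact Or.inl k
          · rw [k, ← he] at hi'; rw [← hi', hoe] at hoz; omega
          · exact Or.inr k
        rcases h4 with k | k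
        · rw [k, pow_one] at hi'
          exact eq_mul_inv_iff_mul_eq.1 hi'
        · exfalso
          have hc3 : c ^ 3 = c⁻¹ := eq_inv_of_mul_eq_one_left (by
            rw [← pow_succ, show 3 + 1 = orderOf c by omega, pow_orderOf_eq_one])
          rw [k, hc3] at hi'
          have hodd : ∀ n : ℕ, z ^ n * c * (z ^ n)⁻¹ = if Even n then c else c⁻¹ := by
            intro n
            induction n with
            | zero => simp
            | succ n ih =>
              have : z ^ (n + 1) * c * (z ^ (n + 1))⁻¹ = z * (z ^ n * c * (z ^ n)⁻¹) * z⁻¹ := by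
                rw [pow_succ']; group
              rw [this, ih]
              by_cases hn : Even n
              · rw [if_pos hn, if_neg (by simpa [Nat.even_add_one] using hn), hi']
              · rw [if_neg hn, if_pos (by simpa [Nat.even_add_one] using hn),
                  show z * c⁻¹ * z⁻¹ = (z * c * z⁻¹)⁻¹ by group, ← hi', inv_inv]
          have := hodd r
          rw [← hzr, pow_orderOf_eq_one, hzr,
            if_neg (Nat.not_even_iff_odd.2 (hr.odd_of_ne_two hr2))] at this
          simp only [one_mul, inv_one, mul_one] at this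
          have := Nat.le_of_dvd (by norm_num) (orderOf_dvd_of_pow_eq_one (x := c) (n := 2) (by
            rw [pow_two]; nth_rw 1 [this]; exact inv_mul_cancel c))
          omega
      have ho : orderOf (c * z) = 4 * r := by
        rw [hcm.orderOf_mul_eq_mul_orderOf_of_coprime, hoc, hzr]
        rw [hoc, hzr]
        exact Nat.Coprime.pow_left 2 ((Nat.coprime_primes Nat.prime_two hr).2 (Ne.symm hr2))
      have := hr.two_le
      refine no_big_order 7 _ ho ?_ ?_ ?_
      · rw [hq]; norm_num
        intro hd; have := Nat.le_of_dvd (by norm_num) hd; omega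
      · rw [hq]; norm_num
        intro hd; have := Nat.le_of_dvd (by norm_num) hd; omega
      · intro hd
        rw [hq]
        omega
    · rw [hcardG] at hj
      by_contra hlt
      have h16 : 4 ≤ j := by
        by_contra h4
        interval_cases j <;> norm_num at hlt
      have := (pow_dvd_pow 2 h16).trans hj
      norm_num at this
  have hDM : D = M := by
    have hDle : Subgroup.closure ({c, y} : Set PG) ≤ M := by
      rw [Subgroup.closure_le]
      intro z hz
      rcases (Set.mem_insert_iff.1 hz).imp_right Set.mem_singleton_iff.1 with hzz | hzz <;> rw [hzz]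
      · exact hcM
      · refine Subgroup.mem_normalizer_iff.2 fun g => ?_
        have : (Subgroup.zpowers c).map (MulAut.conj y).toMonoidHom = Subgroup.zpowers c := by
          rw [MonoidHom.map_zpowers]
          refine (congrArg Subgroup.zpowers hyc).trans ?_
          exact Subgroup.zpowers_inv
        conv_rhs => rw [← this]
        rw [Subgroup.mem_map]
        exact ⟨fun hg => ⟨g, hg, rfl⟩, fun ⟨z, hz, hz'⟩ => (MulAut.conj y).injective hz' ▸ hz⟩
    have hDD : Subgroup.closure ({c, y} : Set PG) = D := by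
      refine le_antisymm ?_ ?_
      · rw [Subgroup.closure_le]
        intro z hz
        rcases (Set.mem_insert_iff.1 hz).imp_right Set.mem_singleton_iff.1 with hzz | hzz <;> rw [hzz] <;> assumption
      · have hlt : Subgroup.zpowers c < Subgroup.closure ({c, y} : Set PG) := by
          refine lt_of_le_of_ne ?_ fun k => ?_
          · rw [Subgroup.zpowers_le]; exact Subgroup.subset_closure (by simp)
          · have hyz : y ∈ Subgroup.zpowers c := k ▸ Subgroup.subset_closure (by simp)
            obtain ⟨i, hi⟩ := Subgroup.mem_zpowers_iff.1 hyz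
            have hcy : y * c * y⁻¹ = c := by rw [← hi]; group
            rw [hyc] at hcy
            have := Nat.le_of_dvd (by norm_num) (orderOf_dvd_of_pow_eq_one (x := c) (n := 2) (by
              rw [pow_two]; nth_rw 1 [← hcy]; exact inv_mul_cancel c))
            omega
        have h1 : 4 < Nat.card (Subgroup.closure ({c, y} : Set PG)) := by
          by_contra hle
          refine hlt.ne (Subgroup.eq_of_le_of_card_ge hlt.le ?_)
          rw [Nat.card_zpowers, hoc]; omega
        have hle' : Subgroup.closure ({c, y} : Set PG) ≤ D := by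
          rw [Subgroup.closure_le]
          intro z hz
          rcases (Set.mem_insert_iff.1 hz).imp_right Set.mem_singleton_iff.1 with hzz | hzz <;> rw [hzz] <;> assumption
        have h2' := Subgroup.card_dvd_of_le hle'
        rw [hD] at h2'
        have h8 : Nat.card (Subgroup.closure ({c, y} : Set PG)) = 8 := by
          have := Nat.le_of_dvd (by norm_num) h2'
          interval_cases hk : Nat.card (Subgroup.closure ({c, y} : Set PG)) <;> norm_num at h2'
          all_goals rfl
        exact (Subgroup.eq_of_le_of_card_ge hle' (by rw [h8, hD])).ge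
    exact Subgroup.eq_of_le_of_card_ge (hDD ▸ hDle) (by rw [hD]; omega)
  set V := Subgroup.closure ({e, y} : Set PG) with hV
  have hwN := klein_setup hyy hye.symm hee hw1 hw2
  rw [← hV] at hwN
  have hMle' : M ≤ Subgroup.normalizer (V : Set PG) := by
    have hcN : c ∈ Subgroup.normalizer (V : Set PG) := by
      have heV : e ∈ V := Subgroup.subset_closure (by simp)
      have hyV : y ∈ V := Subgroup.subset_closure (by simp)
      have hle : V.map (MulAut.conj c).toMonoidHom ≤ V := by
        rw [hV, MonoidHom.map_closure, Subgroup.closure_le]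
        rintro - ⟨z, hz, rfl⟩
        rcases (Set.mem_insert_iff.1 hz).imp_right Set.mem_singleton_iff.1 with h | h <;> rw [h]
        · show c * e * c⁻¹ ∈ V
          rwa [he, show c * c ^ 2 * c⁻¹ = c ^ 2 by group]
        · show c * y * c⁻¹ ∈ V
          have : c * y * c⁻¹ = e * y := by
            calc c * y * c⁻¹ = c * (y * c * y⁻¹)⁻¹⁻¹⁻¹ * y := by group
              _ = _ := by rw [hyc, he, pow_two]; group
          rw [this]
          exact mul_mem heV hyV
      have heq : V.map (MulAut.conj c).toMonoidHom = V :=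
        Subgroup.eq_of_le_of_card_ge hle (le_of_eq (Subgroup.card_map_of_injective
          (MulAut.conj c).injective).symm)
      refine Subgroup.mem_normalizer_iff.2 fun g => ?_
      conv_rhs => rw [← heq]
      rw [Subgroup.mem_map]
      exact ⟨fun hg => ⟨g, hg, rfl⟩, fun ⟨z, hz, hz'⟩ => (MulAut.conj c).injective hz' ▸ hz⟩
    rw [← hDM]
    intro z hz
    -- `D` is generated by `c` and `y`
    have hyN : y ∈ Subgroup.normalizer (V : Set PG) :=
      Subgroup.le_normalizer (Subgroup.subset_closure (by simp))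
    obtain ⟨i, hi⟩ : ∃ i : ℤ, z = c ^ i ∨ z = c ^ i * y := by
      by_contra hcon
      push Not at hcon
      have h9 : 9 ≤ Nat.card D := by
        let f : Fin 4 ⊕ Fin 4 ⊕ Unit → D := fun s => match s with
          | Sum.inl a => ⟨c ^ (a : ℕ), pow_mem hc _⟩
          | Sum.inr (Sum.inl a) => ⟨c ^ (a : ℕ) * y, mul_mem (pow_mem hc _) hy⟩
          | Sum.inr (Sum.inr _) => ⟨z, hz⟩
        have hny : ∀ a b : ℕ, c ^ a ≠ c ^ b * y := fun a b k => by
          have hy' : y = (c ^ b)⁻¹ * c ^ a := by rw [k]; group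
          have hcy : y * c * y⁻¹ = c := by rw [hy']; group
          rw [hyc] at hcy
          have := Nat.le_of_dvd (by norm_num) (orderOf_dvd_of_pow_eq_one (x := c) (n := 2) (by
            rw [pow_two]; nth_rw 1 [← hcy]; exact inv_mul_cancel c))
          omega
        have hinj : ∀ a b : Fin 4, c ^ (a : ℕ) = c ^ (b : ℕ) → a = b := fun a b k =>
          Fin.ext (pow_injOn_Iio_orderOf (Set.mem_Iio.2 (by rw [hoc]; exact a.2))
            (Set.mem_Iio.2 (by rw [hoc]; exact b.2)) k)
        have hf : Function.Injective f := by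
          rintro (a | a | a) (b | b | b) k <;> simp only [f, Subtype.mk.injEq] at k
          · exact congrArg Sum.inl (hinj a b k)
          · exact absurd k (hny _ _)
          · exact absurd k.symm (by simpa using (hcon (a : ℕ)).1)
          · exact absurd k.symm (hny _ _)
          · exact congrArg _ (congrArg Sum.inl (hinj a b (mul_right_cancel k)))
          · exact absurd k.symm (by simpa using (hcon (a : ℕ)).2)
          · exact absurd k (by simpa using (hcon (b : ℕ)).1)
          · exact absurd k (by simpa using (hcon (b : ℕ)).2)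
          · rfl
        have := Nat.card_le_card_of_injective f hf
        simpa using this
      omega
    rcases hi with rfl | rfl
    · exact zpow_mem hcN i
    · exact mul_mem (zpow_mem hcN i) hyN
  have hwM : w ∉ M := by
    intro k
    rw [← hDM] at k
    have hcen : ∀ z ∈ D, z * e * z⁻¹ = e := by
      intro z hz
      rw [hDM] at hz
      have hmem := (Subgroup.mem_normalizer_iff.1 hz c).1 (Subgroup.mem_zpowers c)
      obtain ⟨i, hi⟩ := Subgroup.mem_zpowers_iff.1 hmem
      have he' : z * e * z⁻¹ = e ^ i := by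
        rw [he, ← conj_pow, ← hi, ← zpow_natCast, ← zpow_natCast, ← zpow_mul, ← zpow_mul,
          mul_comm]
      rcases Int.even_or_odd i with ⟨j, hj⟩ | ⟨j, hj⟩
      · exfalso
        rw [hj, ← two_mul, zpow_mul, zpow_two, hee, one_zpow] at he'
        have := conj_eq_one_iff.1 he'
        rw [this, orderOf_one] at hoe
        omega
      · rw [he', hj, zpow_add, zpow_mul, zpow_two, hee, one_zpow, one_mul, zpow_one]
    exact hne (by rw [← hw1, hcen w k])
  have hlt : M < Subgroup.normalizer (V : Set PG) := lt_of_le_of_ne hMle' fun k => hwM (k ▸ hwN)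
  refine norm_ne_top ?_ ?_ (hco.2 _ hlt)
  · intro k
    have : y ∈ V := Subgroup.subset_closure (by simp)
    rw [k] at this
    exact hy1 this
  · intro k
    have hVD : V ≤ D := by
      rw [hV, Subgroup.closure_le]
      intro z hz
      rcases (Set.mem_insert_iff.1 hz).imp_right Set.mem_singleton_iff.1 with hzz | hzz <;> rw [hzz]
      · exact pow_mem hc 2
      · exact hy
    have := Subgroup.card_le_of_le hVD
    rw [k, Subgroup.card_top, hD, hcardG] at this
    omega

theorem alt5_klein : ∃ a b w x : alternatingGroup (Fin 5), a * a = 1 ∧ b * b = 1 ∧ a * b = b * a ∧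
    a ≠ 1 ∧ b ≠ 1 ∧ a ≠ b ∧ w * a * w⁻¹ = b ∧ w * b * w⁻¹ = a * b ∧ w ^ 3 = 1 ∧
    x ^ 5 = 1 ∧ x ≠ 1 := by
  refine ⟨⟨Equiv.swap 0 1 * Equiv.swap 2 3, Equiv.Perm.mem_alternatingGroup.2 (by decide)⟩, ⟨Equiv.swap 0 2 * Equiv.swap 1 3, Equiv.Perm.mem_alternatingGroup.2 (by decide)⟩,
    ⟨Equiv.swap 1 2 * Equiv.swap 2 3, Equiv.Perm.mem_alternatingGroup.2 (by decide)⟩,
    ⟨Equiv.swap 0 1 * Equiv.swap 1 2 * Equiv.swap 2 3 * Equiv.swap 3 4, Equiv.Perm.mem_alternatingGroup.2 (by decide)⟩, ?_⟩
  decide +kernel

theorem not_eleven (hq : Fintype.card F = 11) (h : BiprimaryMax PG) : False := by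
  classical
  haveI := TimesPSLTwo.psl_simple (F := F) (by omega)
  haveI : Fact (Nat.Prime 11) := ⟨by norm_num⟩
  haveI : CharP F 11 :=
    charP_of (F := F) hq
  have h2 : (2 : F) ≠ 0 := Classical.SylowSL2.two_ne_zero_of_odd (by rw [hq]; decide)
  have h5 : (5 : F) ≠ 0 := by
    intro k
    have : (11 : ℕ) ∣ 5 := (CharP.cast_eq_zero_iff F 11 5).1 (by exact_mod_cast k)
    omega
  have h11 : (11 : F) = 0 := by exact_mod_cast CharP.cast_eq_zero F 11
  obtain ⟨A, ⟨ψ⟩⟩ := Forms.KleinIco.exists_icosahedral h2 h5 (t := (8 : F))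
    (by linear_combination (5 : F) * h11)
  obtain ⟨a₀, b₀, w₀, x₀, ha, hb, hab, ha1, hb1, hne, hw1, hw2, hw3, hx, hx1⟩ := alt5_klein
  set ι : alternatingGroup (Fin 5) →* PG := A.subtype.comp ψ.symm.toMonoidHom with hι
  have hinj : Function.Injective ι := fun u v k =>
    ψ.symm.injective (Subtype.ext k)
  have hmem : ∀ u, ι u ∈ A := fun u => (ψ.symm u).2
  set a := ι a₀ with had
  set b := ι b₀ with hbd
  set V := Subgroup.closure ({a, b} : Set PG) with hV
  have hcardA : Nat.card A = 60 := by
    rw [Nat.card_congr ψ.toEquiv, Nat.card_eq_fintype_card]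
    decide +kernel
  have hcardG : Nat.card PG = 660 := by
    have := Forms.DicksonCor.gcd_mul_natCard (F := F)
    rw [hq] at this
    norm_num [-Nat.card_eq_fintype_card] at this
    omega
  have hVA : V ≤ A := by
    rw [hV, Subgroup.closure_le]
    intro z hz
    rcases (Set.mem_insert_iff.1 hz).imp_right Set.mem_singleton_iff.1 with hzz | hzz <;>  rw [hzz] <;> exact hmem _
  have haV : a ∈ V := Subgroup.subset_closure (by simp)
  have hbV : b ∈ V := Subgroup.subset_closure (by simp)
  have ha1' : a ≠ 1 := fun k => ha1 (hinj (k.trans (map_one ι).symm))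
  have hV1 : V ≠ ⊥ := fun k => ha1' (by rw [k] at haV; exact haV)
  have haa : a * a = 1 := by rw [had, ← map_mul, ha, map_one]
  have hbb : b * b = 1 := by rw [hbd, ← map_mul, hb, map_one]
  have hcab : Commute a b := by
    show a * b = b * a
    rw [had, hbd, ← map_mul, ← map_mul, hab]
  have hVset : ∀ z ∈ V, z = 1 ∨ z = a ∨ z = b ∨ z = a * b := by
    intro z hz
    let K : Subgroup PG := Forms.KleinPSL.kSub a b haa hbb hcab
    have hle : V ≤ K := by
      rw [hV, Subgroup.closure_le]
      rintro u (rfl | rfl) <;> simp [K, Forms.KleinPSL.mem_kSub]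
    exact Forms.KleinPSL.mem_kSub.1 (hle hz)
  have hV4 : ∀ r : ℕ, r.Prime → r ∣ Nat.card V → r = 2 := by
    intro r hr hd
    haveI := Fact.mk hr
    obtain ⟨z, hz⟩ := exists_prime_orderOf_dvd_card' r hd
    have hz2 : (z : PG) ^ 2 = 1 := by
      rcases hVset z z.2 with k | k | k | k <;> rw [k, pow_two]
      · simp
      · exact haa
      · exact hbb
      · rw [mul_assoc, ← mul_assoc b, ← hcab.eq, mul_assoc a b b, hbb, mul_one, haa]
    have := orderOf_dvd_of_pow_eq_one hz2
    rw [Subgroup.orderOf_coe, hz] at this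
    exact (Nat.prime_dvd_prime_iff_eq hr Nat.prime_two).1 this
  have hVtop : V ≠ ⊤ := fun k => by
    have := Subgroup.card_le_of_le hVA
    rw [k, Subgroup.card_top, hcardA, hcardG] at this
    omega
  have hco := h V hV1 hVtop ⟨2, 2, Nat.prime_two, Nat.prime_two, fun r hr hd =>
    Or.inl (hV4 r hr hd)⟩
  set M := Subgroup.normalizer (V : Set PG) with hM
  have hwM : ι w₀ ∈ M := klein_setup hbb hcab haa
    (by rw [had, hbd, ← map_inv, ← map_mul, ← map_mul, hw1])
    (by rw [had, hbd, ← map_inv, ← map_mul, ← map_mul, hw2, map_mul])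
  have hno : ∀ z ∈ M, ∀ r : ℕ, r.Prime → orderOf z = r → r = 2 ∨ r = 3 := by
    intro z hz r hr hzr
    by_contra hcon
    push Not at hcon
    have hr5 : 5 ≤ r := by
      have h2' := hr.two_le
      rcases (by omega : r = 2 ∨ r = 3 ∨ r = 4 ∨ 5 ≤ r) with k | k | k | k
      · exact absurd k hcon.1
      · exact absurd k hcon.2
      · rw [k] at hr; norm_num at hr
      · exact k
    -- two of `zʲ a z⁻ʲ`, `j < 4`, coincide
    have himg : ∀ j : ℕ, z ^ j * a * (z ^ j)⁻¹ = a ∨ z ^ j * a * (z ^ j)⁻¹ = b ∨
        z ^ j * a * (z ^ j)⁻¹ = a * b := by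
      intro j
      rcases hVset _ ((Subgroup.mem_normalizer_iff.1 (pow_mem hz j) a).1 haV) with k | k
      · exact absurd (conj_eq_one_iff.1 k) ha1'
      · exact k
    obtain ⟨i, j, hij, hj4, hEq⟩ : ∃ i j : ℕ, i < j ∧ j < 4 ∧
        z ^ i * a * (z ^ i)⁻¹ = z ^ j * a * (z ^ j)⁻¹ := by
      let T : Finset PG := {a, b, a * b}
      have hcardT : T.card < (Finset.range 4).card := by
        rw [Finset.card_range]
        exact Nat.lt_succ_of_le Finset.card_le_three
      have hmaps : ∀ n ∈ Finset.range 4, z ^ n * a * (z ^ n)⁻¹ ∈ T := fun n _ => by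
        rcases himg n with k | k | k <;> simp [T, k]
      obtain ⟨i, hi, j, hj, hne', hEq⟩ := Finset.exists_ne_map_eq_of_card_lt_of_maps_to hcardT hmaps
      rcases hne'.lt_or_gt with k | k
      · exact ⟨i, j, k, Finset.mem_range.1 hj, hEq⟩
      · exact ⟨j, i, k, Finset.mem_range.1 hi, hEq.symm⟩
    have hcm : Commute a (z ^ (j - i)) := by
      have e1 : z ^ j = z ^ i * z ^ (j - i) := by rw [← pow_add]; congr 1; omega
      rw [e1] at hEq
      have e2 : z ^ (j - i) * a * (z ^ (j - i))⁻¹ = a := by
        apply (MulAut.conj (z ^ i)).injective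
        show z ^ i * _ * (z ^ i)⁻¹ = z ^ i * a * (z ^ i)⁻¹
        rw [hEq]; group
      exact (mul_inv_eq_iff_eq_mul.1 e2).symm
    have hozj : orderOf (z ^ (j - i)) = r := by
      rw [orderOf_pow' _ (by omega), hzr, (hr.coprime_iff_not_dvd.2 fun k => by
        have := Nat.le_of_dvd (by omega) k; omega).gcd_eq_one, Nat.div_one]
    have hoa : orderOf a = 2 := orderOf_eq_prime (by rw [pow_two, haa]) ha1'
    have ho : orderOf (a * z ^ (j - i)) = 2 * r := by
      rw [hcm.orderOf_mul_eq_mul_orderOf_of_coprime, hoa, hozj]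
      rw [hoa, hozj]
      exact (Nat.coprime_primes Nat.prime_two hr).2 (by omega)
    refine no_big_order 11 _ ho ?_ ?_ ?_
    · rw [hq]; norm_num
      intro hd; have := Nat.le_of_dvd (by norm_num) hd; omega
    · rw [hq]; norm_num
      intro hd; have := Nat.le_of_dvd (by norm_num) hd; omega
    · intro hd
      rw [hq]
      rcases (Nat.Prime.dvd_mul (by norm_num : Nat.Prime 11)).1 hd with k | k
      · norm_num at k
      · have := Nat.le_of_dvd hr.pos k; omega
  have hMcard : Nat.card M ∣ 12 := by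
    have hd := M.card_subgroup_dvd_card
    rw [hcardG] at hd
    have hnot : ∀ r : ℕ, r.Prime → 5 ≤ r → ¬ r ∣ Nat.card M := fun r hr h5' hdd => by
      haveI := Fact.mk hr
      obtain ⟨z, hz⟩ := exists_prime_orderOf_dvd_card' r hdd
      rcases hno z z.2 r hr (by rw [Subgroup.orderOf_coe, hz]) with k | k <;> omega
    have h5' : Nat.Coprime (Nat.card M) 55 := by
      rw [show (55 : ℕ) = 5 * 11 by norm_num]
      exact Nat.Coprime.mul_right
        ((Nat.prime_five.coprime_iff_not_dvd.2 (hnot 5 Nat.prime_five le_rfl)).symm)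
        (((by norm_num : Nat.Prime 11).coprime_iff_not_dvd.2
          (hnot 11 (by norm_num) (by norm_num))).symm)
    exact h5'.dvd_of_dvd_mul_right (by rwa [show (12 : ℕ) * 55 = 660 by norm_num])
  have hlow : (A.subgroupOf M).index = 1 → False := by
    intro k
    have hMA : M ≤ A := Subgroup.subgroupOf_eq_top.1 (Subgroup.index_eq_one.1 k)
    rcases hMA.eq_or_lt with e | e
    · have := Nat.le_of_dvd (by norm_num) hMcard
      rw [e, hcardA] at this
      omega
    · have := hco.2 _ e
      rw [this, Subgroup.card_top, hcardG] at hcardA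
      omega
  apply hlow
  -- `M ∩ A` has order at least `12`
  have hI : 12 ∣ Nat.card (A ⊓ M : Subgroup PG) := by
    have h4' : 4 ∣ Nat.card (A ⊓ M : Subgroup PG) := by
      have hK : Forms.KleinPSL.kSub a b haa hbb hcab ≤ A ⊓ M := by
        intro u hu
        have huV : u ∈ V := by
          rcases Forms.KleinPSL.mem_kSub.1 hu with k | k | k | k <;> rw [k]
          exacts [one_mem _, haV, hbV, mul_mem haV hbV]
        exact ⟨hVA huV, Subgroup.le_normalizer huV⟩
      have := Subgroup.card_dvd_of_le hK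
      rwa [Forms.KleinPSL.natCard_kSub ha1' (fun k => hb1 (hinj (k.trans (map_one ι).symm)))
        (fun k => hne (hinj k))] at this
    have h3' : 3 ∣ Nat.card (A ⊓ M : Subgroup PG) := by
      have hw0 : w₀ ≠ 1 := fun k => hne (by rw [← hw1, k]; group)
      have ho : orderOf (ι w₀) = 3 := by
        rw [orderOf_injective ι hinj]
        exact orderOf_eq_prime hw3 hw0
      rw [← ho]
      exact Subgroup.orderOf_dvd_natCard _ ⟨hmem _, hwM⟩
    exact Nat.Coprime.mul_dvd_of_dvd_of_dvd (by norm_num : Nat.Coprime 4 3) h4' h3'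
  rw [Subgroup.index_eq_one, Subgroup.subgroupOf_eq_top]
  have hle : Nat.card M ≤ Nat.card (A ⊓ M : Subgroup PG) :=
    (Nat.le_of_dvd (by norm_num) hMcard).trans (Nat.le_of_dvd Nat.card_pos hI)
  have := Subgroup.eq_of_le_of_card_ge (inf_le_right : A ⊓ M ≤ M) hle
  exact inf_eq_right.1 this

/-- the elimination: only `PSL₂(13)` is left -/
theorem card_eq_thirteen (hq : 3 < Fintype.card F) (h : BiprimaryMax PG) :
    Fintype.card F = 13 := by
  classical
  haveI := TimesPSLTwo.psl_simple (F := F) hq
  obtain ⟨p, hpc⟩ := CharP.exists F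
  haveI := hpc
  haveI hp : Fact p.Prime := ⟨CharP.char_is_prime F p⟩
  have hqp := card_prime hq h p
  have hqprime : (Fintype.card F).Prime := hqp ▸ hp.out
  have hodd : Fintype.card F % 2 = 1 := by
    rcases hqprime.eq_two_or_odd with k | k <;> omega
  have hg : Nat.gcd 2 (Fintype.card F - 1) = 2 :=
    Nat.gcd_eq_left (Nat.dvd_of_mod_eq_zero (by omega))
  have h3q : ¬ 3 ∣ Fintype.card F := fun k => by
    have := (Nat.prime_dvd_prime_iff_eq Nat.prime_three hqprime).1 k
    omega
  have test : ∀ (D : Subgroup PG) (m : ℕ), Nonempty (D ≃* DihedralGroup m) →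
      (∃ c ∈ D, ∃ y ∈ D, orderOf c = m ∧ y * c * y⁻¹ = c⁻¹) → 3 ≤ m → 3 ∣ m → m ∣ 6 := by
    rintro D m ⟨φ⟩ ⟨c, hc, y, hy, ho, hyc⟩ hm h3
    have hyy := inverting_sq φ hc hy (by omega) hyc
    have := dvd_two_mul h hyc hyy Nat.prime_three (by norm_num) (ho ▸ h3)
    rwa [ho] at this
  obtain ⟨Dp, -, hDp, hcp⟩ := Forms.DicksonDihedral.exists_plus (F := F)
  obtain ⟨Dm, -, hDm, hcm⟩ := Forms.DicksonDihedral.exists_minus (F := F)
  rw [hg] at hDp hcp hDm hcm
  have hsmall : Fintype.card F = 5 ∨ Fintype.card F = 7 ∨ Fintype.card F = 11 ∨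
      Fintype.card F = 13 := by
    have h6 : 3 ∣ (Fintype.card F + 1) / 2 ∨ 3 ∣ (Fintype.card F - 1) / 2 := by
      rcases (by omega : Fintype.card F % 6 = 1 ∨ Fintype.card F % 6 = 5) with k | k
      · exact Or.inr (by omega)
      · exact Or.inl (by omega)
    rcases h6 with k | k
    · have := Nat.le_of_dvd (by norm_num) (test Dp _ hDp hcp (by
        have := Nat.le_of_dvd (by omega) k; omega) k)
      omega
    · have := Nat.le_of_dvd (by norm_num) (test Dm _ hDm hcm (by
        have := Nat.le_of_dvd (by omega) k; omega) k)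
      omega
  rcases hsmall with k | k | k | k
  · exact (not_five k h).elim
  · exact (not_seven k h).elim
  · exact (not_eleven k h).elim
  · exact k

end psl

end Cfsg.Agent.NormMax
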